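import Mathlib
import Groth.Prelude.Def_CohB1
import Groth.Agent.Lib.Helper6.ProjChart

/-!
# `P^n_R ⟶ Spec R` is smooth and proper, with an open immersion from affine `n`-space (helper5)
-/

set_option autoImplicit false
set_option backward.isDefEq.respectTransparency.types false
universe u
open CategoryTheory CategoryTheory.Limits Opposite TopologicalSpace AlgebraicGeometry
open HomogeneousLocalization

namespace Groth.Agent.Lib.Helper5.PnSm

open Groth.Agent.Lib.Helper6.ProjChart

variable (n : ℕ) (R : Type u) [CommRing R]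

/-- projective `n`-space over `R` (reducible form of `CohB1.ProjSpace`) -/
noncomputable abbrev PP : Scheme.{u} := Proj (CohB1.polyGrading n R)

/-- the structure morphism (reducible form of `CohB1.ProjSpace.toSpec`) -/
noncomputable abbrev PP.toSpec : PP n R ⟶ Spec (CommRingCat.of R) :=
  Proj.toSpecZero (CohB1.polyGrading n R) ≫
    Spec.map (CommRingCat.ofHom (algebraMap R (CohB1.polyGrading n R 0)))

theorem X_mem (i : Fin (n + 1)) :
    (MvPolynomial.X i : MvPolynomial (Fin (n + 1)) R) ∈ CohB1.polyGrading n R 1 :=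
  MvPolynomial.isHomogeneous_X R i

/-- the `i`-th standard chart ring of `P^n_R` -/
abbrev Chart (i : Fin (n + 1)) : Type u :=
  Away (CohB1.polyGrading n R) (MvPolynomial.X i : MvPolynomial (Fin (n + 1)) R)

/-- the structure map `R → Away (X i)` -/
noncomputable def chartC (i : Fin (n + 1)) : R →+* Chart n R i :=
  (fromZeroRingHom (CohB1.polyGrading n R) _).comp (algebraMap R (CohB1.polyGrading n R 0))

/-- the chart ring is a polynomial ring -/
noncomputable def chartEquiv (i : Fin (n + 1)) :
    MvPolynomial {j : Fin (n + 1) // j ≠ i} R ≃+* Chart n R i :=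
  RingEquiv.ofBijective (phi (R := R) i) (phi_bijective (R := R) i)

theorem chartEquiv_C (i : Fin (n + 1)) (c : R) :
    chartEquiv n R i (MvPolynomial.C c) = chartC n R i c := by
  show phi (R := R) i (MvPolynomial.C c) = _
  rw [phi, MvPolynomial.coe_eval₂Hom, MvPolynomial.eval₂_C]
  rfl

/-- the `i`-th standard chart of `P^n_R` -/
noncomputable def chartι (i : Fin (n + 1)) :
    Spec (CommRingCat.of (Chart n R i)) ⟶ PP n R :=
  Proj.awayι (CohB1.polyGrading n R) (MvPolynomial.X i) (X_mem n R i) one_pos

instance (i : Fin (n + 1)) : IsOpenImmersion (chartι n R i) := by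
  unfold chartι; infer_instance

theorem exists_chart (x : PP n R) :
    ∃ (i : Fin (n + 1)) (p : Spec (CommRingCat.of (Chart n R i))), chartι n R i p = x := by
  have h := cover n R
  have hx : x ∈ (⨆ i, Proj.basicOpen (CohB1.polyGrading n R)
      ((MvPolynomial.X : Fin (n + 1) → MvPolynomial (Fin (n + 1)) R) i)) := by
    rw [h]; trivial
  obtain ⟨i, hi⟩ := TopologicalSpace.Opens.mem_iSup.mp hx
  rw [← Proj.opensRange_awayι (CohB1.polyGrading n R) _ (X_mem n R i) one_pos] at hi
  obtain ⟨p, hp⟩ := hi
  exact ⟨i, p, hp⟩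

theorem chartι_toSpec (i : Fin (n + 1)) :
    chartι n R i ≫ PP.toSpec n R = Spec.map (CommRingCat.ofHom (chartC n R i)) := by
  rw [chartι, PP.toSpec, Proj.awayι_toSpecZero_assoc, ← Spec.map_comp]
  rfl

theorem smooth_chartC (i : Fin (n + 1)) : (chartC n R i).Smooth := by
  letI : Algebra R (Chart n R i) := (chartC n R i).toAlgebra
  show Algebra.Smooth R (Chart n R i)
  let e : MvPolynomial {j : Fin (n + 1) // j ≠ i} R ≃ₐ[R] Chart n R i :=
    AlgEquiv.ofRingEquiv (f := chartEquiv n R i) (fun c => chartEquiv_C n R i c)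
  haveI : Algebra.FormallySmooth R (MvPolynomial {j : Fin (n + 1) // j ≠ i} R) := inferInstance
  haveI : Algebra.FinitePresentation R (MvPolynomial {j : Fin (n + 1) // j ≠ i} R) := inferInstance
  haveI : Algebra.Smooth R (MvPolynomial {j : Fin (n + 1) // j ≠ i} R) := ⟨inferInstance, inferInstance⟩
  exact Algebra.Smooth.of_equiv e

theorem smooth_PP_toSpec : Smooth (PP.toSpec n R) := by
  apply IsZariskiLocalAtSource.of_iSup_eq_top (P := @Smooth)
    (fun i : Fin (n + 1) => (chartι n R i).opensRange)
  · rw [eq_top_iff]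
    rintro x -
    obtain ⟨i, p, hp⟩ := exists_chart n R x
    exact TopologicalSpace.Opens.mem_iSup.2 ⟨i, p, hp⟩
  · intro i
    have h1 : Smooth (chartι n R i ≫ PP.toSpec n R) := by
      rw [chartι_toSpec]
      exact (HasRingHomProperty.Spec_iff (P := @Smooth)).2 (smooth_chartC n R i)
    rw [← IsOpenImmersion.isoOfRangeEq_inv_fac (chartι n R i) (Scheme.Opens.ι _)
      (congr_arg Opens.carrier (chartι n R i).opensRange.opensRange_ι.symm), Category.assoc]
    infer_instance

theorem algebraMap_bijective :
    Function.Bijective (algebraMap R (CohB1.polyGrading n R 0)) := by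
  constructor
  · intro r r' h
    have := congrArg Subtype.val h
    exact MvPolynomial.C_injective _ _ this
  · rintro ⟨p, hp⟩
    have hp' : p.IsHomogeneous 0 := (MvPolynomial.mem_homogeneousSubmodule _ _).mp hp
    have h0 : p.totalDegree = 0 := (MvPolynomial.totalDegree_zero_iff_isHomogeneous _).mpr hp'
    refine ⟨p.coeff 0, Subtype.ext ?_⟩
    exact ((MvPolynomial.totalDegree_eq_zero_iff_eq_C).mp h0).symm

instance : IsScalarTower R (CohB1.polyGrading n R 0) (MvPolynomial (Fin (n + 1)) R) := by
  exact IsScalarTower.of_algebraMap_eq (R := R) (S := CohB1.polyGrading n R 0)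
    (A := MvPolynomial (Fin (n + 1)) R) (fun x => rfl)

instance : Algebra.FiniteType (CohB1.polyGrading n R 0) (MvPolynomial (Fin (n + 1)) R) :=
  Algebra.FiniteType.of_restrictScalars_finiteType R _ _

theorem isProper_PP_toSpec : IsProper (PP.toSpec n R) := by
  haveI : IsIso (Spec.map (CommRingCat.ofHom (algebraMap R (CohB1.polyGrading n R 0)))) := by
    haveI : IsIso (CommRingCat.ofHom (algebraMap R (CohB1.polyGrading n R 0))) :=
      (ConcreteCategory.isIso_iff_bijective _).mpr (algebraMap_bijective n R)
    infer_instance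
  infer_instance

theorem smooth_toSpec : Smooth (CohB1.ProjSpace.toSpec n R) := smooth_PP_toSpec n R

theorem isProper_toSpec : IsProper (CohB1.ProjSpace.toSpec n R) := isProper_PP_toSpec n R

/-- the open immersion of affine `n`-space into `P^n_R` (the chart `x_0 ≠ 0`) -/
noncomputable def affRingHom : Chart n R 0 →+* MvPolynomial (Fin n) R :=
  (MvPolynomial.renameEquiv R (finSuccAboveEquiv (0 : Fin (n + 1)))).symm.toRingEquiv.toRingHom.comp
    (chartEquiv n R 0).symm.toRingHom

theorem affRingHom_chartC (c : R) : affRingHom n R (chartC n R 0 c) = MvPolynomial.C c := by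
  rw [← chartEquiv_C n R 0 c]
  simp [affRingHom]

theorem affRingHom_bijective : Function.Bijective (affRingHom n R) := by
  unfold affRingHom
  exact ((MvPolynomial.renameEquiv R
    (finSuccAboveEquiv (0 : Fin (n + 1)))).symm.toRingEquiv.bijective).comp
    ((chartEquiv n R 0).symm.bijective)

/-- the open immersion of affine `n`-space into `P^n_R` (the chart `x_0 ≠ 0`) -/
noncomputable def aff : Spec (CommRingCat.of (MvPolynomial (Fin n) R)) ⟶ PP n R :=
  Spec.map (CommRingCat.ofHom (affRingHom n R)) ≫ chartι n R 0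

instance : IsOpenImmersion (aff n R) := by
  haveI : IsIso (CommRingCat.ofHom (affRingHom n R)) :=
    (ConcreteCategory.isIso_iff_bijective _).mpr (affRingHom_bijective n R)
  unfold aff
  infer_instance

theorem aff_toSpec : aff n R ≫ PP.toSpec n R =
    Spec.map (CommRingCat.ofHom (MvPolynomial.C : R →+* MvPolynomial (Fin n) R)) := by
  rw [aff, Category.assoc, chartι_toSpec, ← Spec.map_comp]
  congr 1
  apply CommRingCat.hom_ext
  apply RingHom.ext
  intro c
  exact affRingHom_chartC n R c

end Groth.Agent.Lib.Helper5.PnSm
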