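import Mathlib
import Groth.Agent.Lib.Helper5.PnSm.Chart

/-!
# Affine-local factorisation of a finite type morphism through projective space (helper5)
-/

set_option autoImplicit false
set_option backward.isDefEq.respectTransparency.types false
universe u
open CategoryTheory CategoryTheory.Limits Opposite TopologicalSpace AlgebraicGeometry

namespace Groth.Agent.Lib.Helper5.PnSm

attribute [local instance] MvPolynomial.algebraMvPolynomial

/-- affine `n`-space over an affine open of `Y` is open in `P^n_Y` -/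
theorem exists_open {R₀ : Type u} [CommRing R₀] (Y : Scheme.{u})
    (s : Y ⟶ Spec (CommRingCat.of R₀))
    (A : Type u) [CommRing A] [Algebra R₀ A] (j : Spec (CommRingCat.of A) ⟶ Y) [IsOpenImmersion j]
    (hj : j ≫ s = Spec.map (CommRingCat.ofHom (algebraMap R₀ A))) (n : ℕ) :
    ∃ o : Spec (CommRingCat.of (MvPolynomial (Fin n) A)) ⟶ pullback (PP.toSpec n R₀) s,
      IsOpenImmersion o ∧
        o ≫ pullback.snd _ _ =
          Spec.map (CommRingCat.ofHom (MvPolynomial.C : A →+* MvPolynomial (Fin n) A)) ≫ j := by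
  have hpo := CommRingCat.isPushout_of_isPushout R₀ A (MvPolynomial (Fin n) R₀)
    (MvPolynomial (Fin n) A)
  have hpb := (isPullback_SpecMap_of_isPushout _ _ _ _ hpo).flip
  have e₁ : Spec.map (CommRingCat.ofHom (algebraMap R₀ (MvPolynomial (Fin n) R₀))) ≫ 𝟙 _ =
      aff n R₀ ≫ PP.toSpec n R₀ := by
    rw [Category.comp_id, aff_toSpec]
    rfl
  have e₂ : Spec.map (CommRingCat.ofHom (algebraMap R₀ A)) ≫ 𝟙 _ = j ≫ s := by
    rw [Category.comp_id, hj]
  refine ⟨hpb.isoPullback.hom ≫ pullback.map _ _ (PP.toSpec n R₀) s (aff n R₀) j (𝟙 _) e₁ e₂,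
    inferInstance, ?_⟩
  rw [Category.assoc, pullback.lift_snd, ← Category.assoc, hpb.isoPullback_hom_snd]
  rfl

/-- the base ring `ℤ` in universe `u` -/
abbrev ZZ : Type u := ULift.{u} ℤ

theorem factor {X Y : Scheme.{u}} [IsNoetherian Y] (f : X ⟶ Y) [LocallyOfFiniteType f]
    (U : X.Opens) (hU : IsAffineOpen U) (V : Y.Opens) (hV : IsAffineOpen V) (hUV : U ≤ f ⁻¹ᵁ V) :
    ∃ (W P : Scheme.{u}) (g : (U : Scheme.{u}) ⟶ W) (h : W ⟶ P) (k : P ⟶ Y),
      IsOpenImmersion g ∧ IsClosedImmersion h ∧ Smooth k ∧ IsProper k ∧ g ≫ h ≫ k = U.ι ≫ f := by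
  have hft : (f.appLE V U hUV).hom.FiniteType := f.finiteType_appLE hV hU hUV
  letI : Algebra Γ(Y, V) Γ(X, U) := (f.appLE V U hUV).hom.toAlgebra
  haveI : Algebra.FiniteType Γ(Y, V) Γ(X, U) := hft
  obtain ⟨n, ψ, hψ⟩ := Algebra.FiniteType.iff_quotient_mvPolynomial''.mp
    (inferInstance : Algebra.FiniteType Γ(Y, V) Γ(X, U))
  letI : Algebra ZZ.{u} Γ(Y, V) :=
    ((Int.castRingHom Γ(Y, V)).comp (ULift.ringEquiv : ZZ.{u} ≃+* ℤ).toRingHom).toAlgebra
  have hj : hV.fromSpec ≫ specULiftZIsTerminal.from Y =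
      Spec.map (CommRingCat.ofHom (algebraMap ZZ.{u} Γ(Y, V))) :=
    specULiftZIsTerminal.hom_ext _ _
  obtain ⟨o, ho, hok⟩ := exists_open Y (specULiftZIsTerminal.from Y) Γ(Y, V) hV.fromSpec hj n
  haveI : IsClosedImmersion (Spec.map (CommRingCat.ofHom ψ.toRingHom)) :=
    IsClosedImmersion.spec_of_surjective _ hψ
  let i : (U : Scheme.{u}) ⟶ pullback (PP.toSpec n ZZ.{u}) (specULiftZIsTerminal.from Y) :=
    hU.isoSpec.hom ≫ Spec.map (CommRingCat.ofHom ψ.toRingHom) ≫ o
  haveI : IsImmersion i := by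
    show IsImmersion (hU.isoSpec.hom ≫ Spec.map (CommRingCat.ofHom ψ.toRingHom) ≫ o)
    infer_instance
  haveI hsm : Smooth (PP.toSpec n ZZ.{u}) := smooth_PP_toSpec n ZZ.{u}
  haveI hpr : IsProper (PP.toSpec n ZZ.{u}) := isProper_PP_toSpec n ZZ.{u}
  haveI hk1 : Smooth (pullback.snd (PP.toSpec n ZZ.{u}) (specULiftZIsTerminal.from Y)) :=
    inferInstance
  haveI hk2 : IsProper (pullback.snd (PP.toSpec n ZZ.{u}) (specULiftZIsTerminal.from Y)) :=
    inferInstance
  haveI : QuasiSeparatedSpace ↥(pullback (PP.toSpec n ZZ.{u}) (specULiftZIsTerminal.from Y)) :=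
    quasiSeparatedSpace_of_quasiSeparated
      (pullback.snd (PP.toSpec n ZZ.{u}) (specULiftZIsTerminal.from Y))
  haveI : CompactSpace ↥(U : Scheme.{u}) := isCompact_iff_compactSpace.mp hU.isCompact
  haveI : QuasiCompact i := inferInstance
  obtain ⟨W, g, h, hg, hh, e⟩ := IsImmersion.isImmersion_iff_exists_of_quasiCompact.mp
    (inferInstance : IsImmersion i)
  refine ⟨W, _, g, h, pullback.snd _ _, hg, hh, hk1, hk2, ?_⟩
  rw [← Category.assoc, e]
  show (hU.isoSpec.hom ≫ Spec.map (CommRingCat.ofHom ψ.toRingHom) ≫ o) ≫ pullback.snd _ _ = _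
  rw [Category.assoc, Category.assoc, hok, ← Spec.map_comp_assoc]
  have h1 : CommRingCat.ofHom (MvPolynomial.C : Γ(Y, V) →+* MvPolynomial (Fin n) Γ(Y, V)) ≫
      CommRingCat.ofHom ψ.toRingHom = f.appLE V U hUV := by
    apply CommRingCat.hom_ext
    apply RingHom.ext
    intro c
    exact ψ.commutes c
  rw [h1, IsAffineOpen.SpecMap_appLE_fromSpec f hV hU hUV, ← Category.assoc,
    IsAffineOpen.isoSpec_hom_fromSpec]

end Groth.Agent.Lib.Helper5.PnSm
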